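import Mathlib

/-!
# Flatness modulo powers of the maximal ideal, descended along an injection of local rings
-/

set_option autoImplicit false
set_option linter.style.haveILetI false
set_option backward.isDefEq.respectTransparency.types false

universe u

open TensorProduct

namespace Groth.Agent.FlatId6926

/-- Tensoring a map with a localization keeps injectivity. -/
theorem lTensor_localized_injective {R S M Mq P P' : Type u} [CommRing R] [CommRing S] [Algebra R S]
    [AddCommGroup M] [Module R M] [Module S M] [IsScalarTower R S M] (T : Submonoid S)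
    [AddCommGroup Mq] [Module R Mq] [Module S Mq] [IsScalarTower R S Mq] (g : M →ₗ[S] Mq) [IsLocalizedModule T g]
    [AddCommGroup P] [Module R P] [AddCommGroup P'] [Module R P'] (f : P →ₗ[R] P')
    (hf : Function.Injective (f.lTensor M)) : Function.Injective (f.lTensor Mq) := by
  have h := IsLocalizedModule.map_injective T (AlgebraTensorModule.rTensor R P g)
    (AlgebraTensorModule.rTensor R P' g) (AlgebraTensorModule.lTensor S M f) hf
  simpa [IsLocalizedModule.map_lTensor] using h

/-- The cancellation of a base change respects injectivity of tensored maps. -/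
theorem rTensor_cancel_injective_iff {R C M P P' : Type u} [CommRing R] [CommRing C] [Algebra R C]
    [AddCommGroup M] [Module R M] [AddCommGroup P] [Module C P] [Module R P] [IsScalarTower R C P]
    [AddCommGroup P'] [Module C P'] [Module R P'] [IsScalarTower R C P'] (f : P →ₗ[C] P') :
    Function.Injective (f.rTensor (C ⊗[R] M)) ↔ Function.Injective ((f.restrictScalars R).rTensor M) := by
  let eP := AlgebraTensorModule.cancelBaseChange R C C P M
  let eP' := AlgebraTensorModule.cancelBaseChange R C C P' M
  have hcomm : ∀ z, eP' (f.rTensor (C ⊗[R] M) z) = (f.restrictScalars R).rTensor M (eP z) := by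
    intro z
    induction z using TensorProduct.induction_on with
    | zero => simp
    | add a b ha hb => simp only [map_add, ha, hb]
    | tmul p w =>
      induction w using TensorProduct.induction_on with
      | zero => simp
      | add a b ha hb => simp only [TensorProduct.tmul_add, map_add, ha, hb]
      | tmul c m => simp [eP, eP', f.map_smul]
  refine ⟨fun h a b hab => ?_, fun h a b hab => eP.injective (h (by rw [← hcomm, ← hcomm, hab]))⟩
  obtain ⟨a, rfl⟩ := eP.surjective a
  obtain ⟨b, rfl⟩ := eP.surjective b
  rw [← hcomm, ← hcomm] at hab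
  rw [h (eP'.injective hab)]

/-- A base change is flat if, at each maximal ideal, either the module is flat or a scalar that is a
unit there kills the new base. -/
theorem flat_baseChange_of_localized {R S M C : Type u} [CommRing R] [CommRing S] [Algebra R S]
    [AddCommGroup M] [Module S M] [Module R M] [IsScalarTower R S M] [CommRing C] [Algebra R C]
    (h : ∀ (Q : Ideal S) [Q.IsMaximal], Module.Flat R (LocalizedModule Q.primeCompl M) ∨
      ∃ r : R, algebraMap R S r ∉ Q ∧ algebraMap R C r = 0) :
    Module.Flat C (C ⊗[R] M) := by
  refine Module.Flat.iff_rTensor_preserves_injective_linearMap.mpr fun P P' _ _ _ _ f hf => ?_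
  letI : Module R P := Module.compHom P (algebraMap R C)
  letI : Module R P' := Module.compHom P' (algebraMap R C)
  haveI : IsScalarTower R C P := IsScalarTower.of_algebraMap_smul fun _ _ => rfl
  haveI : IsScalarTower R C P' := IsScalarTower.of_algebraMap_smul fun _ _ => rfl
  refine (rTensor_cancel_injective_iff f).2 ((LinearMap.lTensor_inj_iff_rTensor_inj M _).1 ?_)
  rw [← AlgebraTensorModule.coe_lTensor (A := S)]
  refine injective_of_isLocalized_maximal _
    (fun Q => AlgebraTensorModule.rTensor R P (LocalizedModule.mkLinearMap Q.primeCompl M)) _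
    (fun Q => AlgebraTensorModule.rTensor R P' (LocalizedModule.mkLinearMap Q.primeCompl M)) _ fun Q hQ => ?_
  rw [IsLocalizedModule.map_lTensor]
  obtain hflat | ⟨r, hr, hr0⟩ := h Q
  · exact Module.Flat.lTensor_preserves_injective_linearMap (f.restrictScalars R) hf
  · have h0 : ∀ z : LocalizedModule Q.primeCompl M ⊗[R] P, z = 0 := fun z => by
      induction z using TensorProduct.induction_on with
      | zero => rfl
      | add a b ha hb => rw [ha, hb, add_zero]
      | tmul m p =>
        obtain ⟨m', rfl⟩ := (Module.End.isUnit_iff _).1
          (IsLocalizedModule.map_units (LocalizedModule.mkLinearMap Q.primeCompl M) (⟨algebraMap R S r, by exact hr⟩ : Q.primeCompl)) |>.2 m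
        show (algebraMap R S r • m') ⊗ₜ[R] p = 0
        rw [algebraMap_smul, TensorProduct.smul_tmul, ← algebraMap_smul C r p, hr0, zero_smul, TensorProduct.tmul_zero]
    intro x y _
    rw [h0 x, h0 y]

/-- A submodule together with a nilpotent ideal times the module generates only if it is everything. -/
theorem eq_top_of_sup_smul {R M : Type u} [CommRing R] [AddCommGroup M] [Module R M]
    (I : Ideal R) {n : ℕ} (hn : I ^ n = ⊥) (S : Submodule R M) (h : ⊤ ≤ S ⊔ I • ⊤) : S = ⊤ := by
  refine top_unique ?_
  have : ∀ m : ℕ, (⊤ : Submodule R M) ≤ S ⊔ I ^ m • ⊤ := fun m => by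
    induction m with
    | zero => rw [pow_zero, Ideal.one_eq_top, Submodule.top_smul]; exact le_sup_right
    | succ m ih =>
      refine ih.trans (sup_le le_sup_left ?_)
      calc I ^ m • ⊤ ≤ I ^ m • (S ⊔ I • ⊤) := Submodule.smul_mono le_rfl h
        _ ≤ S ⊔ I ^ (m + 1) • ⊤ := by
          rw [Submodule.smul_sup, ← Submodule.smul_assoc, Ideal.smul_eq_mul, ← pow_succ]
          exact sup_le_sup_right Submodule.smul_le_right _
  refine (this n).trans (sup_le le_rfl ?_)
  rw [hn, Submodule.bot_smul]
  exact bot_le

open IsLocalRing in
/-- Flatness descends along a local injection out of a local ring with nilpotent maximal ideal. -/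
theorem flat_of_flat_baseChange {A C N : Type u} [CommRing A] [IsLocalRing A] [CommRing C] [IsLocalRing C]
    [Algebra A C] [IsLocalHom (algebraMap A C)] (hinj : Function.Injective (algebraMap A C))
    {n : ℕ} (hn : maximalIdeal A ^ n = ⊥) [AddCommGroup N] [Module A N] [Module.Flat C (C ⊗[A] N)] :
    Module.Flat A N := by
  classical
  let k := ResidueField A
  let K := ResidueField C
  let w := Module.Free.chooseBasis k (k ⊗[A] N)
  obtain ⟨v, hv⟩ := (TensorProduct.mk_surjective A N k Ideal.Quotient.mk_surjective).comp_left w
  have hv' : (TensorProduct.mk A k N 1) ∘ v = w := hv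
  have hspan : Submodule.span A (Set.range v) = ⊤ := by
    refine eq_top_of_sup_smul _ hn _ ?_
    have h1 : (Submodule.span A (Set.range v)).map (TensorProduct.mk A k N 1) = ⊤ := by
      rw [Submodule.map_span, ← Set.range_comp]
      rw [hv', ← Submodule.restrictScalars_span A k Ideal.Quotient.mk_surjective, w.span_eq,
        Submodule.restrictScalars_top]
    have h2 := Submodule.comap_map_eq (TensorProduct.mk A k N 1) (Submodule.span A (Set.range v))
    rw [h1, Submodule.comap_top] at h2
    exact h2.le.trans (sup_le_sup le_rfl (le_of_eq (LinearMap.ker_tensorProductMk (Q := N) (I := maximalIdeal A))))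
  let e : K ⊗[k] (k ⊗[A] N) ≃ₗ[K] K ⊗[C] (C ⊗[A] N) :=
    (AlgebraTensorModule.cancelBaseChange A k K K N).trans (AlgebraTensorModule.cancelBaseChange A C K K N).symm
  have hK : LinearIndependent K (TensorProduct.mk C K (C ⊗[A] N) 1 ∘ (TensorProduct.mk A C N 1 ∘ v)) := by
    have h0 := ((w.baseChange K).linearIndependent).map' e.toLinearMap e.ker
    have hfun : TensorProduct.mk C K (C ⊗[A] N) 1 ∘ (TensorProduct.mk A C N 1 ∘ v) = e ∘ (w.baseChange K) := by
      funext i
      simp only [Function.comp_apply, TensorProduct.mk_apply, Module.Basis.baseChange_apply]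
      rw [← congrFun hv' i]
      simp [e]
    rw [hfun]
    exact h0
  have hC := Module.IsLocalRing.linearIndependent_of_flat _ hK
  have hA : LinearIndependent A v := by
    refine LinearIndependent.of_comp (TensorProduct.mk A C N 1) (hC.restrict_scalars ?_)
    intro a b hab
    apply hinj
    simpa [Algebra.smul_def] using hab
  haveI : Module.Free A N := Module.Free.of_basis (Module.Basis.mk hA hspan.ge)
  infer_instance

end Groth.Agent.FlatId6926
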